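import Mathlib
import Groth.Agent.Lib.Helper89.PrimDV
import Groth.Agent.Lib.Helper69.PrimKR2
set_option autoImplicit false
set_option linter.style.haveILetI false
universe u
open TensorProduct IsLocalRing
open scoped Pointwise

namespace Groth.Agent.Lib.Helper55.Prim

/-- `V / m^n V` has finite length -/
theorem isFiniteLength_quot_pow {R : Type u} [CommRing R] [IsLocalRing R] [IsNoetherianRing R]
    (V : Type u) [AddCommGroup V] [Module R V] [Module.Finite R V] (n : ℕ) :
    IsFiniteLength R (V ⧸ (maximalIdeal R ^ n • (⊤ : Submodule R V))) := by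
  set I := maximalIdeal R ^ n with hI
  set W := V ⧸ (I • (⊤ : Submodule R V)) with hW
  rw [isFiniteLength_iff_isNoetherian_isArtinian]
  refine ⟨inferInstance, ?_⟩
  have htors : Module.IsTorsionBySet R W (I : Set R) := by
    intro x a
    obtain ⟨v, rfl⟩ := Submodule.Quotient.mk_surjective _ x
    rw [← Submodule.Quotient.mk_smul, Submodule.Quotient.mk_eq_zero]
    exact Submodule.smul_mem_smul a.2 trivial
  letI : Module (R ⧸ I) W := htors.module
  haveI : IsScalarTower R (R ⧸ I) W := htors.isScalarTower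
  haveI : Module.Finite (R ⧸ I) W := Module.Finite.of_restrictScalars_finite R (R ⧸ I) W
  haveI : IsArtinianRing (R ⧸ I) := by
    by_cases hn : n = 0
    · have : I = ⊤ := by rw [hI, hn, pow_zero, Ideal.one_eq_top]
      haveI : Subsingleton (R ⧸ I) := by
        rw [this]; exact Ideal.Quotient.subsingleton_iff.mpr rfl
      infer_instance
    · have hne : I ≠ ⊤ := by
        intro h
        have : maximalIdeal R = ⊤ := by
          have h1 : I ≤ maximalIdeal R := Ideal.pow_le_self hn
          rw [h] at h1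
          exact top_le_iff.mp h1
        exact (IsLocalRing.maximalIdeal.isMaximal R).ne_top this
      haveI : Nontrivial (R ⧸ I) := Ideal.Quotient.nontrivial_iff.mpr hne
      haveI : IsLocalRing (R ⧸ I) :=
        IsLocalRing.of_surjective' (Ideal.Quotient.mk I) Ideal.Quotient.mk_surjective
      rw [isArtinianRing_iff_isNilpotent_maximalIdeal]
      refine ⟨n, ?_⟩
      have hmax : maximalIdeal (R ⧸ I) = (maximalIdeal R).map (Ideal.Quotient.mk I) := by
        refine (IsLocalRing.eq_maximalIdeal ?_).symm
        exact Ideal.IsMaximal.map_of_surjective_of_ker_le Ideal.Quotient.mk_surjective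
          (by rw [Ideal.mk_ker]; exact Ideal.pow_le_self hn)
      rw [hmax, ← Ideal.map_pow, Ideal.zero_eq_bot, Ideal.map_quotient_self]
  haveI : IsArtinian (R ⧸ I) W := inferInstance
  exact isArtinian_of_surjective_algebraMap (R := R ⧸ I) (S := R) Ideal.Quotient.mk_surjective

end Groth.Agent.Lib.Helper55.Prim

namespace Groth.Agent.Lib.Helper55.Prim

theorem smul_lTensor {R S : Type u} [CommRing R] [CommRing S] [Algebra R S]
    {V V' : Type u} [AddCommGroup V] [Module R V] [AddCommGroup V'] [Module R V']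
    (q : V →ₗ[R] V') (s : S) (w : S ⊗[R] V) :
    LinearMap.lTensor S q (s • w) = s • LinearMap.lTensor S q w := by
  induction w using TensorProduct.induction_on with
  | zero => simp
  | tmul a v =>
    rw [TensorProduct.smul_tmul', LinearMap.lTensor_tmul, LinearMap.lTensor_tmul,
      TensorProduct.smul_tmul']
  | add x y hx hy => rw [smul_add, map_add, hx, hy, map_add, smul_add]

/-- The statement [KF] (zero divisors of `k' ⊗ κ` are nilpotent for `κ/k` primary), as a hypothesis;
`Helper93.PrimKF.kf_of_exists_k2` reduces it to [KF2] (see departures/helper55.md). -/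
def KFStatement : Prop :=
  ∀ {k κ k' : Type u} [Field k] [Field κ] [Field k'] [Algebra k κ] [Algebra k k']
    (_ : ∀ a : κ, IsSeparable k a → a ∈ Set.range (algebraMap k κ))
    (t w : k' ⊗[k] κ) (_ : w ≠ 0) (_ : t * w = 0), IsNilpotent t

theorem core_abs (HKF : KFStatement.{u}) {k k' R S : Type u} [Field k] [Field k'] [Algebra k k'] [CommRing R] [IsLocalRing R]
    [IsNoetherianRing R] [Algebra k R] [CommRing S] [Algebra k S] [Algebra k' S] [Algebra R S]
    [IsScalarTower k k' S] [IsScalarTower k R S] [Algebra.IsPushout k k' R S]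
    (hprim : ∀ a : ResidueField R, IsSeparable k a → a ∈ Set.range (algebraMap k (ResidueField R)))
    (V : Type u) [AddCommGroup V] [Module R V] [Module.Finite R V]
    (P : Ideal S) [P.IsPrime] (hP : P.comap (algebraMap R S) = maximalIdeal R)
    (s : S) (hs : s ∉ P) (w : S ⊗[R] V) (hw : s • w = 0) : w = 0 := by
  -- S is free over R
  have hsymm : Algebra.IsPushout k R k' S := Algebra.IsPushout.symm inferInstance
  have hbc : IsBaseChange R (IsScalarTower.toAlgHom k k' S).toLinearMap := hsymm.out
  haveI : Module.Free R (R ⊗[k] k') := inferInstance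
  haveI hfree : Module.Free R S := Module.Free.of_equiv hbc.equiv
  haveI : Module.Flat R S := inferInstance
  -- the ring iso T ≃ k' ⊗ κ
  let κ := ResidueField R
  let e1 : R ⊗[k] k' ≃ₐ[R] S := Algebra.IsPushout.equiv k R k' S
  let Ψ : S ⊗[R] κ ≃+* k' ⊗[k] κ :=
    ((Algebra.TensorProduct.congr e1.symm (AlgEquiv.refl : κ ≃ₐ[R] κ)).toRingEquiv.trans
      (Algebra.TensorProduct.comm R (R ⊗[k] k') κ).toRingEquiv).trans
      ((Algebra.TensorProduct.cancelBaseChange k R R κ k').toRingEquiv.trans
        (Algebra.TensorProduct.comm k κ k').toRingEquiv)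
  -- the map T → S/P
  have hmP : (maximalIdeal R).map (algebraMap R S) ≤ P := by
    rw [Ideal.map_le_iff_le_comap, hP]
  let φκ : κ →ₐ[R] S ⧸ P := Ideal.Quotient.liftₐ (maximalIdeal R) (Algebra.ofId R (S ⧸ P))
    (fun a ha => by
      change algebraMap R (S ⧸ P) a = 0
      rw [IsScalarTower.algebraMap_apply R S (S ⧸ P), Ideal.Quotient.algebraMap_eq,
        Ideal.Quotient.eq_zero_iff_mem]
      exact hmP (Ideal.mem_map_of_mem _ ha))
  let φ : S ⊗[R] κ →ₐ[R] S ⧸ P :=
    Algebra.TensorProduct.productMap (IsScalarTower.toAlgHom R S (S ⧸ P)) φκ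
  have hφ : φ (s ⊗ₜ[R] (1 : κ)) = Ideal.Quotient.mk P s := by
    change (Algebra.TensorProduct.productMap _ _) (s ⊗ₜ[R] (1 : κ)) = _
    rw [Algebra.TensorProduct.productMap_apply_tmul, map_one, mul_one]
    rfl
  have hs' : ∀ w' : S ⊗[R] κ, s • w' = 0 → w' = 0 := by
    intro w' hw'
    by_contra hne
    have hmul : (s ⊗ₜ[R] (1 : κ)) * w' = 0 := by
      rw [← hw', Algebra.smul_def, Algebra.TensorProduct.algebraMap_apply]
      rfl
    have hnil : IsNilpotent (Ψ (s ⊗ₜ[R] (1 : κ))) :=
      HKF (k := k) (κ := κ) (k' := k') hprim _ (Ψ w')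
        (fun h0 => hne (by simpa using h0)) (by rw [← map_mul, hmul, map_zero])
    have hnil' : IsNilpotent (s ⊗ₜ[R] (1 : κ)) := by
      have := hnil.map Ψ.symm
      simpa using this
    have hnil'' : IsNilpotent (Ideal.Quotient.mk P s) := by
      rw [← hφ]
      exact hnil'.map φ
    have h0 : Ideal.Quotient.mk P s = 0 := by
      haveI : IsDomain (S ⧸ P) := Ideal.Quotient.isDomain P
      exact hnil''.eq_zero
    exact hs (Ideal.Quotient.eq_zero_iff_mem.mp h0)
  -- Krull + devissage
  apply Groth.Agent.Lib.Helper69.PrimKR2.kr V w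
  intro n
  apply Groth.Agent.Lib.Helper89.PrimDV.dv s hs' _ (isFiniteLength_quot_pow V n)
  rw [← smul_lTensor, hw, map_zero]

end Groth.Agent.Lib.Helper55.Prim
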